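import Cfsg.Agent.H0.TC
set_option maxRecDepth 100000
namespace H0.TCHe3
open H0
noncomputable def tS : Tr := (.leaf (nat_lit 0xff768f8f8fff83698282ff75765c75ff684f6968ff415c5a5bff344e674eff4f4d344dff42274140ff33341a33ff260d2726ff001a1919ff0d000000))
noncomputable def tJ : Tr := (.leaf (nat_lit 0x307211200622102073201802306011307201100173200602102073201802305011000444))
noncomputable def tQ : Tr := (.leaf (nat_lit 0x0))
noncomputable def tR : TC.WTr := (.node (.node (.node (.node (.leaf [0] 0 0 false) (.leaf [2] 2 0 false)) (.node (.leaf [1] 1 0 false) (.leaf [3] 3 0 false))) (.node (.node (.leaf [2, 0, 2] 9 0 false) (.leaf [3, 2, 3, 2, 3] 6 0 false)) (.node (.leaf [2, 1, 2, 1, 2, 1, 2, 1, 0, 2] 7 2 false) (.leaf [1, 3, 1] 5 1 false)))) (.node (.node (.node (.leaf [3, 0, 3] 10 0 false) (.leaf [1, 2, 1, 2, 1, 2, 1, 0, 2, 1] 7 3 false)) (.node (.leaf [3, 1, 3] 5 0 false) (.leaf [2, 3, 2, 3, 2] 6 1 false))) (.node (.node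 (.leaf [1, 0, 1] 8 0 false) (.leaf [2] 2 0 false)) (.node (.leaf [1] 1 0 false) (.leaf [3] 3 0 false)))))
def hl : List ℕ := [0, 1, 2]
def B : List (List ℕ) := [[0, 0], [1, 1], [2, 2], [3, 3], [1, 2, 1, 2, 1, 2, 1, 2, 1, 2, 1, 2, 1, 2, 1, 2, 1, 2, 1, 2], [1, 3, 1, 3], [2, 3, 2, 3, 2, 3], [0, 2, 1, 2, 1, 2, 1, 2, 1, 2, 1], [0, 1, 0, 1], [0, 2, 0, 2], [0, 3, 0, 3]]
def subs : List (List ℕ) := [[0], [1], [2]]
def ex : List (List ℕ) := []
def inv (x : ℕ) : ℕ := [0, 1, 2, 3].getD x 0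
noncomputable def rS : ℕ → ℕ := rowOf tS (nat_lit 9) (nat_lit 511) (nat_lit 40) (nat_lit 1099511627775)
noncomputable def rJ : ℕ → ℕ := rowOf tJ (nat_lit 9) (nat_lit 511) (nat_lit 24) (nat_lit 16777215)
noncomputable def C : TC.Cfg where
  S := look rS (nat_lit 8) (nat_lit 255)
  J := look rJ (nat_lit 4) (nat_lit 15)
  Q := lookQ tQ (nat_lit 9) (nat_lit 1) (nat_lit 1)
  R := tR.get
  hl := fun x => hl.contains x
  n := (nat_lit 12)
  M := (nat_lit 12)
  top := (nat_lit 144)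
  nl := (nat_lit 4)
  need := (nat_lit 4)
  nr := (nat_lit 4)
theorem k0 : TC.chkRange C 0 1 = true := by decide +kernel
theorem rows0 : ∀ c < (0 + 1) * 64, c < C.M → TC.chkRow C c = true :=
  TC.rows_step (TC.rows_zero C) k0
theorem main {G : Type*} [Group G] (g : ℕ → G) (hB : ∀ r ∈ B, ev g r = 1) (H : Subgroup G)
    (hH : ∀ w ∈ subs, ev g w ∈ H) :
    H.relIndex (Subgroup.closure (g '' {x | x < 4})) ≠ 0 ∧
      H.relIndex (Subgroup.closure (g '' {x | x < 4})) ≤ 12 :=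
  TC.index_le C B subs ex inv hl tR.hint rfl (by decide +kernel) (by decide +kernel)
    (TC.rows_done rows0 (by decide +kernel)) g hB H hH
end H0.TCHe3
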